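import Groth.Agent.Lib.Depth.SES
import Groth.Agent.Lib.Depth.Basic
import Mathlib.Algebra.Homology.ShortComplex.ModuleCat
import Mathlib.Algebra.Homology.ShortComplex.HomologicalComplex
import Mathlib.Algebra.Homology.HomologicalComplex
import Mathlib.Algebra.Category.ModuleCat.Abelian

/-!
# Depth of the top homology of a complex
-/

set_option autoImplicit false
set_option linter.style.haveILetI false

universe u

open IsLocalRing LocCoh CategoryTheory
open Groth.Agent.Lib.Depth

namespace Groth.Agent.Lib.EGA63.AcyclicDepth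

variable {R : Type u} [CommRing R] [IsLocalRing R] [IsNoetherianRing R]
  (C : ChainComplex (ModuleCat.{u} R) ℕ) (e : ℕ)

theorem le_depth_boundaries (hzero : ∀ j, e < j → Limits.IsZero (C.X j))
    (hfin : ∀ j, Module.Finite R (C.X j)) (hdepth : ∀ j, j ≤ e → (j : ℕ∞) ≤ depth R (C.X j))
    (i : ℕ) (habove : ∀ j, i < j → C.ExactAt j) :
    ∀ (m j : ℕ), e ≤ j + m → i ≤ j →
      ((j + 1 : ℕ) : ℕ∞) ≤ depth R (LinearMap.range (C.d (j + 1) j).hom) := by
  intro m
  induction m with
  | zero =>
    intro j hj _
    haveI := ModuleCat.subsingleton_of_isZero (hzero (j + 1) (by omega))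
    haveI : Subsingleton (LinearMap.range (C.d (j + 1) j).hom) :=
      ⟨fun ⟨a, x, hx⟩ ⟨b, y, hy⟩ => Subtype.ext (hx.symm.trans ((congrArg _ (Subsingleton.elim x y)).trans hy))⟩
    rw [depth, Basic.idealDepth_subsingleton]
    exact le_top
  | succ m ih =>
    intro j hj hij
    by_cases hje : e < j + 1
    · haveI := ModuleCat.subsingleton_of_isZero (hzero (j + 1) hje)
      haveI : Subsingleton (LinearMap.range (C.d (j + 1) j).hom) :=
        ⟨fun ⟨a, x, hx⟩ ⟨b, y, hy⟩ => Subtype.ext (hx.symm.trans ((congrArg _ (Subsingleton.elim x y)).trans hy))⟩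
      rw [depth, Basic.idealDepth_subsingleton]
      exact le_top
    haveI := hfin j
    haveI := hfin (j + 1)
    haveI := hfin (j + 2)
    have hex := habove (j + 1) (by omega)
    rw [HomologicalComplex.exactAt_iff' C (j + 2) (j + 1) j (ChainComplex.prev ℕ (j + 1))
      (ChainComplex.next_nat_succ j), ShortComplex.moduleCat_exact_iff_range_eq_ker] at hex
    refine SES.le_idealDepth_right (maximalIdeal R) (n := j + 1)
      (f := (LinearMap.range (C.d (j + 2) (j + 1)).hom).subtype)
      (g := (C.d (j + 1) j).hom.rangeRestrict) Subtype.val_injective ?_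
      (LinearMap.surjective_rangeRestrict _) (hdepth (j + 1) (by omega)) (ih (j + 1) (by omega) (by omega))
    rw [LinearMap.exact_iff, Submodule.range_subtype, LinearMap.ker_rangeRestrict]
    exact hex.symm

theorem one_le_depth_homology (hzero : ∀ j, e < j → Limits.IsZero (C.X j))
    (hfin : ∀ j, Module.Finite R (C.X j)) (hdepth : ∀ j, j ≤ e → (j : ℕ∞) ≤ depth R (C.X j))
    (i : ℕ) (hi : 0 < i) (hnot : ¬ C.ExactAt i) (habove : ∀ j, i < j → C.ExactAt j) :
    1 ≤ depth R (C.homology i) := by
  obtain ⟨k, rfl⟩ : ∃ k, i = k + 1 := ⟨i - 1, by omega⟩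
  have hie : k + 1 ≤ e := by
    by_contra h
    exact hnot (HomologicalComplex.ExactAt.of_isZero (hzero (k + 1) (by omega)))
  haveI := hfin (k + 1)
  haveI := hfin (k + 2)
  haveI := hfin k
  let S := C.sc' (k + 2) (k + 1) k
  let e1 : C.homology (k + 1) ≅ ModuleCat.of R (LinearMap.ker S.g.hom ⧸ LinearMap.range S.moduleCatToCycles) :=
    C.homologyIsoSc' (k + 2) (k + 1) k (ChainComplex.prev ℕ (k + 1)) (ChainComplex.next_nat_succ k) ≪≫
      S.moduleCatHomologyIso
  rw [depth, Basic.idealDepth_congr _ e1.toLinearEquiv]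
  haveI : Module.Finite R S.X₂ := hfin (k + 1)
  haveI : Module.Finite R S.X₁ := hfin (k + 2)
  haveI : Module.Finite R S.X₃ := hfin k
  have hZ : ((1 : ℕ) : ℕ∞) ≤ idealDepth (maximalIdeal R) (LinearMap.ker S.g.hom) := by
    refine SES.le_idealDepth_left (maximalIdeal R) (f := (LinearMap.ker S.g.hom).subtype)
      (g := S.g.hom.rangeRestrict) Subtype.val_injective ?_ (LinearMap.surjective_rangeRestrict _) ?_ (by simp)
    · rw [LinearMap.exact_iff, Submodule.range_subtype, LinearMap.ker_rangeRestrict]
    · exact le_trans (by exact_mod_cast (show 1 ≤ k + 1 by omega)) (hdepth (k + 1) hie)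
  have hB : ((2 : ℕ) : ℕ∞) ≤ idealDepth (maximalIdeal R) (LinearMap.range S.moduleCatToCycles) := by
    have h := le_depth_boundaries C e hzero hfin hdepth (k + 1) habove e (k + 1) (by omega) le_rfl
    let ι : LinearMap.range S.moduleCatToCycles →ₗ[R] S.X₂ :=
      (LinearMap.ker S.g.hom).subtype ∘ₗ (LinearMap.range S.moduleCatToCycles).subtype
    have hι : Function.Injective ι := Subtype.val_injective.comp Subtype.val_injective
    have hr : LinearMap.range ι = LinearMap.range S.f.hom := by
      rw [LinearMap.range_comp, Submodule.range_subtype, ← LinearMap.range_comp]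
      rfl
    rw [Basic.idealDepth_congr _ ((LinearEquiv.ofInjective ι hι).trans (LinearEquiv.ofEq _ _ hr))]
    exact le_trans (by exact_mod_cast (show 2 ≤ k + 1 + 1 by omega)) h
  exact_mod_cast SES.le_idealDepth_right (maximalIdeal R) (n := 1)
    (f := (LinearMap.range S.moduleCatToCycles).subtype) (g := (LinearMap.range S.moduleCatToCycles).mkQ)
    Subtype.val_injective (LinearMap.exact_subtype_mkQ _) (Submodule.mkQ_surjective _) hZ hB

end Groth.Agent.Lib.EGA63.AcyclicDepth
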