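import Groth.Agent.Lib.Depth.Assoc
import Groth.Agent.Lib.Depth.SES
import Mathlib.LinearAlgebra.Dual.Lemmas
import Mathlib.Algebra.Module.FinitePresentation

/-!
# Extension of maps across primes of depth two
-/

set_option autoImplicit false
set_option linter.style.haveILetI false

universe u

open IsLocalRing LocCoh Pointwise Submodule
open Groth.Agent.Lib.Depth

namespace Groth.Agent.Lib.EGA63.DepthTwo

/-- Over a local ring, an element conducted into a module of depth two by the maximal ideal gives an
associated closed point of the ambient module. -/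
theorem mem_associatedPrimes {R M N : Type u} [CommRing R] [IsNoetherianRing R] [IsLocalRing R]
    [AddCommGroup M] [Module R M] [Module.Finite R M] [AddCommGroup N] [Module R N]
    (φ : M →ₗ[R] N) (hφ : Function.Injective φ) (hM : 2 ≤ depth R M) (c : N)
    (hc : c ∉ LinearMap.range φ) (hmc : ∀ a ∈ maximalIdeal R, a • c ∈ LinearMap.range φ) :
    maximalIdeal R ∈ associatedPrimes R N := by
  suffices h : ∃ z : N, z ≠ 0 ∧ ∀ a ∈ maximalIdeal R, a • z = 0 by
    obtain ⟨z, hz, hza⟩ := h
    refine isAssociatedPrime_iff.2 ⟨inferInstance, z, le_antisymm (fun a ha => ?_) (le_maximalIdeal fun h => hz ?_)⟩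
    · exact Submodule.mem_colon_singleton.2 ((Submodule.mem_bot R).2 (hza a ha))
    · have h1 : (1 : R) ∈ (⊥ : Submodule R N).colon {z} := h ▸ trivial
      simpa using Submodule.mem_colon_singleton.1 h1
  rcases subsingleton_or_nontrivial M with hM' | hM'
  · refine ⟨c, fun h => hc (h ▸ zero_mem _), fun a ha => ?_⟩
    obtain ⟨m, hm⟩ := hmc a ha
    rw [← hm, Subsingleton.elim m 0, map_zero]
  have htop : maximalIdeal R • (⊤ : Submodule R M) ≠ ⊤ := Basic.smul_top_ne_top Ideal.IsPrime.ne_top'
  obtain ⟨x, hx, hreg, h1⟩ := Basic.exists_isSMulRegular_of_succ_le htop (n := 1) (by exact hM)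
  choose ψ hψ using hmc
  let m₁ := ψ x hx
  have hm₁ : φ m₁ = x • c := hψ x hx
  have hcls : ∀ a ∈ maximalIdeal R, a • m₁ ∈ x • (⊤ : Submodule R M) := fun a ha => by
    refine (Submodule.mem_smul_pointwise_iff_exists _ _ _).2 ⟨ψ a ha, trivial, hφ ?_⟩
    rw [map_smul, map_smul, hψ, hm₁, smul_comm]
  have hq : (Submodule.Quotient.mk m₁ : QuotSMulTop x M) = 0 := by
    by_contra hne
    obtain ⟨P, hP, hle⟩ := exists_le_isAssociatedPrime_of_isNoetherianRing R _ hne
    have hmP : maximalIdeal R ≤ P := fun a ha => hle (Submodule.mem_colon_singleton.2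
      ((Submodule.mem_bot R).2 (by
        rw [← Submodule.Quotient.mk_smul, Submodule.Quotient.mk_eq_zero]; exact hcls a ha)))
    rcases (Assoc.one_le_idealDepth_iff_forall (maximalIdeal R) (QuotSMulTop x M)).1 (by exact_mod_cast h1) with h | h
    · haveI : Nontrivial (QuotSMulTop x M) := ⟨⟨_, _, hne⟩⟩
      exact Basic.smul_top_ne_top Ideal.IsPrime.ne_top' h
    · exact h P hP hmP
  rw [Submodule.Quotient.mk_eq_zero, Submodule.mem_smul_pointwise_iff_exists] at hq
  obtain ⟨m₀, -, hm₀⟩ := hq
  refine ⟨c - φ m₀, fun h => hc ⟨m₀, (sub_eq_zero.1 h).symm⟩, fun a ha => ?_⟩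
  have h0 : x • (ψ a ha - a • m₀) = 0 := hφ (by
    rw [map_zero, map_smul, map_sub, map_smul, hψ, smul_sub, smul_comm x a c, ← hm₁, ← hm₀, map_smul,
      smul_comm x a, sub_self])
  rw [smul_sub, ← map_smul, ← hψ a ha, ← map_sub, hreg.right_eq_zero_of_smul h0, map_zero]

/-- A map is bijective if at every prime it is, or the source has depth two and the prime is not
associated to the target. -/
theorem bijective {R M N : Type u} [CommRing R] [IsNoetherianRing R] [AddCommGroup M]
    [Module R M] [Module.Finite R M] [AddCommGroup N] [Module R N] (φ : M →ₗ[R] N)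
    (h : ∀ (p : Ideal R) [p.IsPrime],
      Function.Bijective (LocalizedModule.map p.primeCompl φ) ∨
        (2 ≤ depth (Localization.AtPrime p) (LocalizedModule p.primeCompl M) ∧
          p ∉ associatedPrimes R N)) :
    Function.Bijective φ := by
  have hinj : Function.Injective φ := by
    rw [← LinearMap.ker_eq_bot, Submodule.eq_bot_iff]
    intro k hk
    by_contra hk0
    obtain ⟨P, hP, -⟩ := exists_le_isAssociatedPrime_of_isNoetherianRing R (⟨k, hk⟩ : LinearMap.ker φ)
      (fun h => hk0 (congrArg Subtype.val h))
    haveI := hP.1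
    rcases h P with hb | ⟨hd, -⟩
    · obtain ⟨-, ⟨y, hy⟩, hyP⟩ := isAssociatedPrime_iff.1 hP
      have h1 : LocalizedModule.mk y (1 : P.primeCompl) = 0 := hb.1 (by
        rw [map_zero, LocalizedModule.map_mk, LinearMap.mem_ker.1 hy, LocalizedModule.zero_mk])
      obtain ⟨u, hu, huy⟩ := LocalizedModule.mem_ker_mkLinearMap_iff.1
        (LinearMap.mem_ker.2 (show LocalizedModule.mkLinearMap P.primeCompl M y = 0 from h1))
      refine hu ?_
      have hcol : u ∈ (⊥ : Submodule R (LinearMap.ker φ)).colon {⟨y, hy⟩} :=
        Submodule.mem_colon_singleton.2 ((Submodule.mem_bot R).2 (Subtype.ext huy))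
      rwa [← hyP] at hcol
    · haveI : IsNoetherianRing (Localization.AtPrime P) :=
        IsLocalization.isNoetherianRing P.primeCompl _ inferInstance
      haveI : Module.Finite (Localization.AtPrime P) (LocalizedModule P.primeCompl M) :=
        Module.Finite.of_isLocalizedModule P.primeCompl (LocalizedModule.mkLinearMap P.primeCompl M)
      have hPM := Module.associatedPrimes.mem_associatedPrimes_atPrime_of_mem_associatedPrimes
        (show P ∈ associatedPrimes R M from hP.map_of_injective (LinearMap.ker φ).subtype Subtype.val_injective)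
      haveI : Nontrivial (LocalizedModule P.primeCompl M) := by
        by_contra hc
        haveI := not_nontrivial_iff_subsingleton.1 hc
        exact not_isAssociatedPrime_of_subsingleton hPM
      rw [(Assoc.depth_eq_zero_iff _).2 hPM] at hd
      simp at hd
  refine ⟨hinj, fun n => ?_⟩
  by_contra hn
  have hne : (Submodule.Quotient.mk n : N ⧸ LinearMap.range φ) ≠ 0 := fun h0 =>
    hn ((Submodule.Quotient.mk_eq_zero _).1 h0)
  obtain ⟨P, hP, -⟩ := exists_le_isAssociatedPrime_of_isNoetherianRing R _ hne
  obtain ⟨hPp, z, hz⟩ := isAssociatedPrime_iff.1 hP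
  obtain ⟨n', rfl⟩ := Submodule.Quotient.mk_surjective _ z
  haveI := hPp
  have hmem : ∀ a, a ∈ P ↔ a • n' ∈ LinearMap.range φ := fun a => by
    rw [hz, Submodule.mem_colon_singleton, Submodule.mem_bot, ← Submodule.Quotient.mk_smul,
      Submodule.Quotient.mk_eq_zero]
  let φP := LocalizedModule.map P.primeCompl φ
  let c : LocalizedModule P.primeCompl N := LocalizedModule.mk n' 1
  have hc : c ∉ LinearMap.range φP := by
    rintro ⟨y, hy⟩
    induction y using LocalizedModule.induction_on with
    | h m s =>
      change LocalizedModule.map P.primeCompl φ (LocalizedModule.mk m s) = LocalizedModule.mk n' 1 at hy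
      rw [LocalizedModule.map_mk, LocalizedModule.mk_eq] at hy
      obtain ⟨u, hu⟩ := hy
      simp only [Submonoid.smul_def, OneMemClass.coe_one, one_smul] at hu
      exact (u * s : P.primeCompl).2 ((hmem _).2 ⟨(u : R) • m, by rw [map_smul, hu, smul_smul]; rfl⟩)
  rcases h P with hb | ⟨hd, hN⟩
  · exact hc (hb.2 c)
  haveI : IsNoetherianRing (Localization.AtPrime P) :=
    IsLocalization.isNoetherianRing P.primeCompl _ inferInstance
  haveI : Module.Finite (Localization.AtPrime P) (LocalizedModule P.primeCompl M) :=
    Module.Finite.of_isLocalizedModule P.primeCompl (LocalizedModule.mkLinearMap P.primeCompl M)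
  have hcol : maximalIdeal (Localization.AtPrime P) ≤ (LinearMap.range φP).colon {c} := by
    rw [← Localization.AtPrime.map_eq_maximalIdeal, Ideal.map_le_iff_le_comap]
    intro a ha
    obtain ⟨m, hm⟩ := (hmem a).1 ha
    refine Submodule.mem_colon_singleton.2 ⟨LocalizedModule.mk m 1, ?_⟩
    change LocalizedModule.map P.primeCompl φ (LocalizedModule.mk m 1) = _
    rw [LocalizedModule.map_mk, hm, algebraMap_smul, LocalizedModule.smul'_mk]
  have := mem_associatedPrimes φP (LocalizedModule.map_injective P.primeCompl φ hinj) hd c hc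
    fun a ha => Submodule.mem_colon_singleton.1 (hcol ha)
  rw [← Module.associatedPrimes.preimage_comap_associatedPrimes_eq_associatedPrimes_of_isLocalizedModule
    P.primeCompl (Localization.AtPrime P) (LocalizedModule.mkLinearMap P.primeCompl N), Set.mem_preimage,
    show Ideal.comap (algebraMap R (Localization.AtPrime P)) (maximalIdeal _) = P from
      IsLocalization.AtPrime.under_maximalIdeal _ P] at this
  exact hN this

/-- Localization commutes with evaluation into the bidual. -/
theorem bijective_map_eval_iff {R : Type u} [CommRing R] [IsNoetherianRing R] (M : Type u) [AddCommGroup M]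
    [Module R M] [Module.Finite R M] (p : Ideal R) [p.IsPrime] :
    Function.Bijective (LocalizedModule.map p.primeCompl (Module.Dual.eval R M)) ↔
      Module.IsReflexive (Localization.AtPrime p) (LocalizedModule p.primeCompl M) := by
  haveI : Module.FinitePresentation R M := Module.finitePresentation_of_finite R M
  haveI : Module.Finite R (Module.Dual R M) := inferInstance
  haveI : Module.FinitePresentation R (Module.Dual R M) := Module.finitePresentation_of_finite R _
  let Rp := Localization.AtPrime p
  let Mp := LocalizedModule p.primeCompl M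
  let f := LocalizedModule.mkLinearMap p.primeCompl M
  let l := Algebra.linearMap R Rp
  let L : Module.Dual R M →ₗ[R] Module.Dual Rp Mp := IsLocalizedModule.mapExtendScalars p.primeCompl f l Rp
  let L2 : Module.Dual R (Module.Dual R M) →ₗ[R] Module.Dual Rp (Module.Dual Rp Mp) :=
    IsLocalizedModule.mapExtendScalars p.primeCompl L l Rp
  haveI : IsLocalizedModule p.primeCompl L :=
    Module.FinitePresentation.isLocalizedModule_mapExtendScalars _ _ _ _
  haveI : IsLocalizedModule p.primeCompl L2 :=
    Module.FinitePresentation.isLocalizedModule_mapExtendScalars _ _ _ _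
  let i := IsLocalizedModule.iso p.primeCompl L2
  have hcomm : ∀ m : M, Module.Dual.eval Rp Mp (f m) = L2 (Module.Dual.eval R M m) := fun m => by
    refine LinearMap.restrictScalars_injective R (IsLocalizedModule.ext p.primeCompl L
      (IsLocalizedModule.map_units l) (LinearMap.ext fun η => ?_))
    change IsLocalizedModule.map p.primeCompl f l η (f m) =
      IsLocalizedModule.map p.primeCompl L l (Module.Dual.eval R M m) (L η)
    rw [IsLocalizedModule.map_apply, IsLocalizedModule.map_apply]
    rfl
  have key : (Module.Dual.eval Rp Mp).restrictScalars R =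
      i.toLinearMap ∘ₗ (LocalizedModule.map p.primeCompl (Module.Dual.eval R M)).restrictScalars R :=
    IsLocalizedModule.ext p.primeCompl f (IsLocalizedModule.map_units L2) (LinearMap.ext fun m => by
      change Module.Dual.eval Rp Mp (f m) =
        i (LocalizedModule.map p.primeCompl (Module.Dual.eval R M) (LocalizedModule.mk m 1))
      rw [hcomm, LocalizedModule.map_mk, IsLocalizedModule.iso_apply_mk]
      have h1 := Module.End.isUnit_apply_inv_apply_of_isUnit (IsLocalizedModule.map_units L2 (1 : p.primeCompl))
        (L2 (Module.Dual.eval R M m))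
      simpa using h1.symm)
  have key' : ⇑(Module.Dual.eval Rp Mp) = i ∘ LocalizedModule.map p.primeCompl (Module.Dual.eval R M) :=
    congrArg DFunLike.coe key
  constructor
  · intro h
    exact ⟨key' ▸ i.bijective.comp h⟩
  · intro h
    have hb := h.bijective_dual_eval'
    rw [key', Function.Bijective.of_comp_iff' i.bijective] at hb
    exact hb

/-- Reflexivity is detected at the primes of depth at most one. -/
theorem isReflexive_iff (R : Type u) [CommRing R] [IsDomain R]
    [IsNoetherianRing R] (M : Type u) [AddCommGroup M] [Module R M] [Module.Finite R M] :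
    Module.IsReflexive R M ↔ ∀ (p : Ideal R) [p.IsPrime],
      Module.IsReflexive (Localization.AtPrime p) (LocalizedModule p.primeCompl M) ∨
        2 ≤ depth (Localization.AtPrime p) (LocalizedModule p.primeCompl M) := by
  constructor
  · intro h p _
    refine Or.inl ((bijective_map_eval_iff M p).1 ⟨LocalizedModule.map_injective p.primeCompl _ h.bijective_dual_eval'.1,
      LocalizedModule.map_surjective p.primeCompl _ h.bijective_dual_eval'.2⟩)
  · intro h
    refine ⟨bijective _ fun p _ => ?_⟩
    rcases h p with hr | hd
    · exact Or.inl ((bijective_map_eval_iff M p).2 hr)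
    rcases subsingleton_or_nontrivial (LocalizedModule p.primeCompl M) with hs | hs
    · refine Or.inl ((bijective_map_eval_iff M p).2 ⟨fun a b _ => Subsingleton.elim a b, fun y => ⟨0, ?_⟩⟩)
      refine LinearMap.ext fun η => ?_
      rw [show η = 0 from LinearMap.ext fun z => by rw [Subsingleton.elim z 0, map_zero, map_zero]]
      simp
    refine Or.inr ⟨hd, fun hp => ?_⟩
    obtain ⟨-, ψ, hψ⟩ := isAssociatedPrime_iff.1 hp
    have hψ0 : ψ ≠ 0 := fun h0 => (inferInstance : p.IsPrime).ne_top (by
      rw [hψ, h0, eq_top_iff]
      exact fun a _ => Submodule.mem_colon_singleton.2 (by simp))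
    have hp0 : p = ⊥ := by
      rw [eq_bot_iff]
      intro a ha
      rw [hψ] at ha
      have ha' : a • ψ = 0 := (Submodule.mem_bot R).1 (Submodule.mem_colon_singleton.1 ha)
      by_contra h0
      refine hψ0 (LinearMap.ext fun η => ?_)
      have := LinearMap.congr_fun ha' η
      rw [LinearMap.smul_apply, LinearMap.zero_apply, smul_eq_mul, mul_eq_zero] at this
      exact this.resolve_left h0
    haveI : IsNoetherianRing (Localization.AtPrime p) :=
      IsLocalization.isNoetherianRing p.primeCompl _ inferInstance
    haveI : Module.Finite (Localization.AtPrime p) (LocalizedModule p.primeCompl M) :=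
      Module.Finite.of_isLocalizedModule p.primeCompl (LocalizedModule.mkLinearMap p.primeCompl M)
    have h2 := (WithBot.coe_le_coe.2 hd).trans (Assoc.depth_le_ringKrullDim (LocalizedModule p.primeCompl M))
    rw [IsLocalization.AtPrime.ringKrullDim_eq_height p (Localization.AtPrime p),
      show p.height = 0 by subst hp0; exact Ideal.height_bot, WithBot.coe_le_coe] at h2
    simp at h2

end Groth.Agent.Lib.EGA63.DepthTwo
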