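import Groth.Agent.Lib.EGA63.LocSub
import Groth.Agent.Lib.Depth.Local
import Groth.Agent.Lib.Depth.CM
import Groth.Agent.Lib.DMod.SupportDim
import Mathlib.RingTheory.Ideal.HasGoingUp
import Mathlib.RingTheory.Localization.BaseChange

/-!
# Depth and dimension of a module which is finite over the base
-/

set_option autoImplicit false
set_option linter.style.haveILetI false

universe u

open IsLocalRing LocCoh
open scoped Pointwise
open Groth.Agent.Lib.Depth

namespace Groth.Agent.Lib.EGA63.FiniteBase

variable {A B : Type u} [CommRing A] [CommRing B] [IsNoetherianRing A] [IsNoetherianRing B] [Algebra A B]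
  (M : Type u) [AddCommGroup M] [Module B M] [Module A M] [IsScalarTower A B M] [Module.Finite A M]

open Local Basic in
/-- Depth of a module finite over the base does not depend on the ring acting. -/
theorem idealDepth_eq_map (I : Ideal A) : idealDepth I M = idealDepth (I.map (algebraMap A B)) M := by
  haveI : Module.Finite B M := Module.Finite.of_restrictScalars_finite A B M
  by_cases hI : I • (⊤ : Submodule A M) = ⊤
  · rw [idealDepth_of_smul_top_eq hI, idealDepth_of_smul_top_eq ((smul_top_eq_top_iff_map I).mp hI)]
  obtain ⟨n, hn⟩ := exists_nat_eq_idealDepth I M hI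
  induction n generalizing M with
  | zero =>
    rw [hn, Nat.cast_zero]
    obtain ⟨m, hm, hk⟩ := exists_smul_eq_zero_of_idealDepth_eq_zero (by simpa using hn)
    refine (idealDepth_eq_zero_of_exists (mt (smul_top_eq_top_iff_map I).mpr hI) ⟨m, hm, ?_⟩).symm
    intro b hb
    induction hb using Submodule.span_induction with
    | mem x hx =>
      obtain ⟨a, ha, rfl⟩ := hx
      rw [algebraMap_smul, hk a ha]
    | zero => simp
    | add x y _ _ hx hy => rw [add_smul, hx, hy, add_zero]
    | smul c x _ hx => rw [smul_assoc, hx, smul_zero]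
  | succ n ih =>
    obtain ⟨x, hx, hreg, hI', hn'⟩ := exists_regular_of_idealDepth_eq_succ hn
    let e : QuotSMulTop x M ≃ₗ[A] QuotSMulTop (algebraMap A B x) M :=
      Submodule.quotEquivOfEq _ ((algebraMap A B x • (⊤ : Submodule B M)).restrictScalars A) (by
          ext m
          simp [Submodule.mem_smul_pointwise_iff_exists]) ≪≫ₗ
        Submodule.Quotient.restrictScalarsEquiv A _
    haveI : Module.Finite A (QuotSMulTop (algebraMap A B x) M) := Module.Finite.equiv e
    rw [← SES.idealDepth_quotSMulTop I hx hreg,
      ← SES.idealDepth_quotSMulTop (I.map (algebraMap A B)) (Ideal.mem_map_of_mem _ hx)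
        ((isSMulRegular_algebraMap_iff (M := M) (A := B) (r := x)).mpr hreg), idealDepth_congr I e,
      ih (QuotSMulTop (algebraMap A B x) M) inferInstance
        ((smul_top_eq_top_congr I e).not.mp hI')
        ((idealDepth_congr I e).symm.trans hn')]

/-- The depth over `A_p` is the least depth at the primes over `p`. -/
theorem depth_eq_iInf (p : PrimeSpectrum A) :
    depth (Localization.AtPrime p.asIdeal) (LocalizedModule p.asIdeal.primeCompl M) =
      ⨅ (q : PrimeSpectrum B) (_ : q.asIdeal.comap (algebraMap A B) = p.asIdeal),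
        depth (Localization.AtPrime q.asIdeal) (LocalizedModule q.asIdeal.primeCompl M) := by
  let T := Algebra.algebraMapSubmonoid B p.asIdeal.primeCompl
  let Bp := Localization T
  let Ap := Localization.AtPrime p.asIdeal
  let M' := LocalizedModule T M
  let φ : Ap →+* Bp := IsLocalization.map Bp (algebraMap A B)
    (show p.asIdeal.primeCompl ≤ T.comap (algebraMap A B) from fun x hx => ⟨x, hx, rfl⟩)
  letI : Algebra Ap Bp := φ.toAlgebra
  haveI : IsScalarTower A Ap Bp := IsScalarTower.of_algebraMap_eq fun a => by
    rw [RingHom.algebraMap_toAlgebra]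
    exact ((IsLocalization.map_eq _ a).trans (IsScalarTower.algebraMap_apply A B Bp a).symm).symm
  letI : Module Ap M' := Module.compHom M' φ
  haveI : IsScalarTower Ap Bp M' := IsScalarTower.of_algebraMap_smul fun _ _ => rfl
  haveI : IsScalarTower A Ap M' := IsScalarTower.of_algebraMap_smul fun a m => by
    change φ (algebraMap A Ap a) • m = a • m
    rw [show φ (algebraMap A Ap a) = algebraMap A Bp a from
      (IsScalarTower.algebraMap_apply A Ap Bp a).symm, algebraMap_smul]
  let f := (LocalizedModule.mkLinearMap T M).restrictScalars A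
  haveI : IsLocalizedModule p.asIdeal.primeCompl f := IsLocalizedModule.restrictScalars _ _
  haveI : IsNoetherianRing Ap := IsLocalization.isNoetherianRing p.asIdeal.primeCompl Ap inferInstance
  haveI : IsNoetherianRing Bp := IsLocalization.isNoetherianRing T Bp inferInstance
  haveI : Module.Finite Ap M' := Module.Finite.of_isLocalizedModule p.asIdeal.primeCompl f
  haveI : Module.Finite Bp M' := Module.Finite.of_restrictScalars_finite Ap Bp M'
  let e : LocalizedModule p.asIdeal.primeCompl M ≃ₗ[Ap] M' :=
    (IsLocalizedModule.iso p.asIdeal.primeCompl f).extendScalarsOfIsLocalization p.asIdeal.primeCompl Ap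
  rw [Basic.depth_congr e, depth, idealDepth_eq_map (B := Bp) M', Local.idealDepth_eq_iInf]
  have hmax : ∀ Q : PrimeSpectrum Bp, (maximalIdeal Ap).map (algebraMap Ap Bp) ≤ Q.asIdeal ↔
      (Q.asIdeal.comap (algebraMap B Bp)).comap (algebraMap A B) = p.asIdeal := by
    intro Q
    rw [Ideal.map_le_iff_le_comap, Ideal.comap_comap, ← IsScalarTower.algebraMap_eq,
      IsScalarTower.algebraMap_eq A Ap Bp, ← Ideal.comap_comap]
    constructor
    · intro h
      rw [le_antisymm (le_maximalIdeal (Ideal.IsPrime.comap _).ne_top) h]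
      exact IsLocalization.AtPrime.under_maximalIdeal Ap p.asIdeal
    · intro h
      rw [← IsLocalization.map_under p.asIdeal.primeCompl Ap (Q.asIdeal.comap (algebraMap Ap Bp)),
        Ideal.under_def, h]
      exact Localization.AtPrime.map_eq_maximalIdeal.ge
  apply le_antisymm
  · refine le_iInf₂ fun q hq => ?_
    obtain ⟨q₀, hq₀⟩ := q
    have hd : Disjoint (T : Set B) q₀ := Set.disjoint_left.2 fun b ⟨a, ha, hab⟩ hb =>
      ha (show a ∈ p.asIdeal from hq ▸ (show a ∈ q₀.comap (algebraMap A B) from Ideal.mem_comap.2 (hab.symm ▸ hb)))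
    let Q : PrimeSpectrum Bp :=
      ⟨q₀.map (algebraMap B Bp), IsLocalization.isPrime_of_isPrime_disjoint T Bp q₀ hq₀ hd⟩
    have hQ : (⟨q₀, hq₀⟩ : PrimeSpectrum B) = PrimeSpectrum.comap (algebraMap B Bp) Q :=
      PrimeSpectrum.ext (IsLocalization.under_map_of_isPrime_disjoint T Bp hq₀ hd).symm
    rw [hQ] at hq ⊢
    exact (iInf₂_le Q ((hmax Q).2 hq)).trans (LocSub.depth_supportDim_eq T M Q).1.le
  · refine le_iInf₂ fun Q hQ => ?_
    exact (iInf₂_le (PrimeSpectrum.comap (algebraMap B Bp) Q) ((hmax Q).1 hQ)).trans
      (LocSub.depth_supportDim_eq T M Q).1.ge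

omit [IsNoetherianRing B] in
/-- `B / Ann M` is integral over `A`. -/
theorem isIntegral_quotient : Algebra.IsIntegral A (B ⧸ Module.annihilator B M) := by
  obtain ⟨n, g, hg⟩ := Module.Finite.exists_fin (R := A) (M := M)
  let J := Module.annihilator B M
  let φ : B →ₗ[B] (Fin n → M) := LinearMap.pi fun i => LinearMap.toSpanSingleton B M (g i)
  have hφ : LinearMap.ker φ = J := by
    ext b
    rw [LinearMap.mem_ker, Module.mem_annihilator]
    refine ⟨fun hb m => ?_, fun hb => funext fun i => hb (g i)⟩
    induction (show m ∈ Submodule.span A (Set.range g) from hg ▸ Submodule.mem_top)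
      using Submodule.span_induction with
    | mem x hx =>
      obtain ⟨i, rfl⟩ := hx
      exact congrFun hb i
    | zero => exact smul_zero b
    | add x y _ _ hx hy => rw [smul_add, hx, hy, add_zero]
    | smul c x _ hx => rw [smul_comm, hx, smul_zero]
  let ψ : (B ⧸ J) →ₗ[B] (Fin n → M) := Submodule.liftQ J φ hφ.ge
  have hψ : Function.Injective ψ := LinearMap.ker_eq_bot.1 (Submodule.ker_liftQ_eq_bot _ _ _ hφ.le)
  haveI : Module.Finite A (B ⧸ J) := Module.Finite.of_injective (ψ.restrictScalars A) hψ
  exact Algebra.IsIntegral.of_finite A (B ⧸ J)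

/-- The dimension over `A_p` is the largest dimension at the primes over `p`. -/
theorem supportDim_eq_iSup (p : PrimeSpectrum A) :
    Module.supportDim (Localization.AtPrime p.asIdeal) (LocalizedModule p.asIdeal.primeCompl M) =
      ⨆ (q : PrimeSpectrum B) (_ : q.asIdeal.comap (algebraMap A B) = p.asIdeal),
        Module.supportDim (Localization.AtPrime q.asIdeal) (LocalizedModule q.asIdeal.primeCompl M) := by
  haveI : Module.Finite B M := Module.Finite.of_restrictScalars_finite A B M
  haveI := isIntegral_quotient (A := A) (B := B) M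
  let J := Module.annihilator B M
  let B' := B ⧸ J
  let c := PrimeSpectrum.comap (algebraMap A B)
  have hsupp : ∀ x : PrimeSpectrum B, x ∈ Module.support B M → c x ∈ Module.support A M := fun x hx =>
    Module.mem_support_iff_of_finite.2 fun a ha => Module.mem_support_iff_of_finite.1 hx
      (Module.mem_annihilator.2 fun m => by rw [algebraMap_smul]; exact Module.mem_annihilator.1 ha m)
  rw [DMod.SupportDim.supportDim_localized]
  apply le_antisymm
  · rw [Order.krullDim]
    refine iSup_le fun l => ?_
    let l' : LTSeries (PrimeSpectrum A) := l.map (fun y => y.1) fun _ _ h => h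
    have hker : RingHom.ker (algebraMap A B') ≤ l'.head.asIdeal := fun a ha => by
      refine Module.mem_support_iff_of_finite.1 (show l'.head ∈ Module.support A M from l.head.2.1)
        (Module.mem_annihilator.2 fun m => ?_)
      rw [← algebraMap_smul B a m]
      exact Module.mem_annihilator.1 (Ideal.Quotient.eq_zero_iff_mem.1 ha) m
    obtain ⟨P, -, hP, hPc⟩ := Ideal.exists_ideal_over_prime_of_isIntegral l'.head.asIdeal (⊥ : Ideal B') hker
    haveI := hP
    haveI : P.LiesOver l'.head.asIdeal := ⟨hPc.symm⟩
    obtain ⟨L, hLlen, -, hL⟩ := Ideal.exists_ltSeries_of_hasGoingUp (S := B') l' P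
    let z := L.last
    have hz : z.asIdeal.comap (algebraMap A B') ≤ p.asIdeal := by
      have hmem : PrimeSpectrum.comap (algebraMap A B') z ∈ l'.toList := hL ▸
        List.mem_map_of_mem (RelSeries.mem_toList.2 (RelSeries.last_mem L))
      obtain ⟨i, hi⟩ := RelSeries.mem_toList.1 hmem
      exact (congrArg PrimeSpectrum.asIdeal hi).ge.trans (l i).2.2
    obtain ⟨Q, hQge, hQ, hQc⟩ :=
      Ideal.exists_ideal_over_prime_of_isIntegral_of_isPrime p.asIdeal z.asIdeal hz
    let d := PrimeSpectrum.comap (Ideal.Quotient.mk J)
    let q : PrimeSpectrum B := d ⟨Q, hQ⟩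
    have hq : q.asIdeal.comap (algebraMap A B) = p.asIdeal := hQc
    refine le_trans ?_ (le_iSup₂ q hq)
    rw [DMod.SupportDim.supportDim_localized, Order.krullDim]
    have hmemd : ∀ x : PrimeSpectrum B', d x ∈ Module.support B M := fun x =>
      Module.mem_support_iff_of_finite.2 fun b hb => by
        change Ideal.Quotient.mk J b ∈ x.asIdeal
        rw [Ideal.Quotient.eq_zero_iff_mem.2 hb]
        exact zero_mem _
    have hlt : ∀ i : Fin (L.length + 1), L i ≤ z := fun i => L.monotone (Fin.le_last i)
    let L' : LTSeries {x : PrimeSpectrum B // x ∈ Module.support B M ∧ x ≤ q} :=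
      { length := L.length
        toFun := fun i => ⟨d (L i), hmemd _, Ideal.comap_mono ((show (L i).asIdeal ≤ z.asIdeal from hlt i).trans hQge)⟩
        step := fun i => by
          have h := L.step i
          exact lt_of_le_not_ge (Ideal.comap_mono (le_of_lt h)) fun hle => (not_le_of_gt h)
            (Ideal.comap_le_comap_iff_of_surjective _ Ideal.Quotient.mk_surjective _ _ |>.1 hle) }
    refine le_trans ?_ (le_iSup _ L')
    change (l.length : WithBot ℕ∞) ≤ (L.length : WithBot ℕ∞)
    rw [hLlen]
    exact le_rfl
  · refine iSup₂_le fun q hq => ?_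
    rw [DMod.SupportDim.supportDim_localized]
    refine Order.krullDim_le_of_strictMono
      (fun x => ⟨c x.1, hsupp _ x.2.1, show x.1.asIdeal.comap _ ≤ p.asIdeal from hq ▸ Ideal.comap_mono x.2.2⟩) ?_
    intro x y hxy
    have hJ : ∀ z : PrimeSpectrum B, z ∈ Module.support B M →
        (z.asIdeal.map (Ideal.Quotient.mk J)).comap (Ideal.Quotient.mk J) = z.asIdeal := fun z hz => by
      rw [Ideal.comap_map_of_surjective _ Ideal.Quotient.mk_surjective, ← RingHom.ker_eq_comap_bot,
        Ideal.mk_ker, sup_eq_left.2 (Module.mem_support_iff_of_finite.1 hz)]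
    haveI : (x.1.asIdeal.map (Ideal.Quotient.mk J)).IsPrime :=
      Ideal.map_isPrime_of_surjective Ideal.Quotient.mk_surjective
        (by rw [Ideal.mk_ker]; exact Module.mem_support_iff_of_finite.1 x.2.1)
    have hlt : x.1.asIdeal.map (Ideal.Quotient.mk J) < y.1.asIdeal.map (Ideal.Quotient.mk J) := by
      refine lt_of_le_not_ge (Ideal.map_mono (le_of_lt hxy)) fun hle => not_le_of_gt hxy ?_
      have := Ideal.comap_mono (f := Ideal.Quotient.mk J) hle
      rw [hJ _ x.2.1, hJ _ y.2.1] at this
      exact this
    have h := Ideal.IsIntegral.comap_lt_comap (R := A) hlt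
    rw [IsScalarTower.algebraMap_eq A B B', ← Ideal.comap_comap, ← Ideal.comap_comap,
      Ideal.Quotient.algebraMap_eq, hJ _ x.2.1, hJ _ y.2.1] at h
    exact h

omit [IsNoetherianRing B] [Module B M] [IsScalarTower A B M] in
/-- Over a local ring the invariants are those of the localization at the maximal ideal. -/
theorem localRing_eq [IsLocalRing A] :
    depth A M = depth (Localization.AtPrime (closedPoint A).asIdeal)
        (LocalizedModule (closedPoint A).asIdeal.primeCompl M) ∧
      Module.supportDim A M = Module.supportDim (Localization.AtPrime (closedPoint A).asIdeal)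
        (LocalizedModule (closedPoint A).asIdeal.primeCompl M) := by
  refine ⟨?_, by rw [DMod.SupportDim.supportDim_localized, DMod.SupportDim.supportDim_local]⟩
  rw [depth, Local.idealDepth_eq_iInf]
  refine le_antisymm (iInf₂_le (closedPoint A) le_rfl) (le_iInf₂ fun p hp => ?_)
  have hpm : p = closedPoint A :=
    PrimeSpectrum.ext (le_antisymm (le_maximalIdeal p.isPrime.ne_top) hp)
  subst hpm
  exact le_rfl

/-- `(S_k)` ascends from `A` to `B`. -/
theorem hasSk_of_base (k : ℕ) (h : LocCoh.HasSk k A M) : LocCoh.HasSk k B M := by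
  intro q _
  let p : PrimeSpectrum A := ⟨q.comap (algebraMap A B), inferInstance⟩
  refine le_trans (min_le_min_left _ ?_) ((h p.asIdeal).trans (WithBot.coe_le_coe.2 ?_))
  · rw [supportDim_eq_iSup (B := B) M p]
    exact le_iSup₂ (f := fun (x : PrimeSpectrum B) (_ : x.asIdeal.comap (algebraMap A B) = p.asIdeal) =>
      Module.supportDim (Localization.AtPrime x.asIdeal) (LocalizedModule x.asIdeal.primeCompl M))
      ⟨q, inferInstance⟩ rfl
  · rw [depth_eq_iInf (B := B) M p]
    exact iInf₂_le (f := fun (x : PrimeSpectrum B) (_ : x.asIdeal.comap (algebraMap A B) = p.asIdeal) =>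
      depth (Localization.AtPrime x.asIdeal) (LocalizedModule x.asIdeal.primeCompl M))
      ⟨q, inferInstance⟩ rfl

/-- `(S_k)` descends from `B` to `A` when dimensions agree along the fibres. -/
theorem hasSk_of_top (k : ℕ)
    (heq : ∀ q ∈ Module.support B M, ∀ q' ∈ Module.support B M,
      q.asIdeal.comap (algebraMap A B) = q'.asIdeal.comap (algebraMap A B) →
        Module.supportDim (Localization.AtPrime q.asIdeal) (LocalizedModule q.asIdeal.primeCompl M) =
          Module.supportDim (Localization.AtPrime q'.asIdeal) (LocalizedModule q'.asIdeal.primeCompl M))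
    (h : LocCoh.HasSk k B M) : LocCoh.HasSk k A M := by
  intro p _
  have hd := supportDim_eq_iSup (B := B) M (⟨p, inferInstance⟩ : PrimeSpectrum A)
  have hdep := depth_eq_iInf (B := B) M (⟨p, inferInstance⟩ : PrimeSpectrum A)
  rw [hd, hdep]
  obtain ⟨d, hdd⟩ : ∃ d, d = min (k : WithBot ℕ∞) (⨆ (q : PrimeSpectrum B)
      (_ : q.asIdeal.comap (algebraMap A B) = p),
      Module.supportDim (Localization.AtPrime q.asIdeal) (LocalizedModule q.asIdeal.primeCompl M)) := ⟨_, rfl⟩
  rw [← hdd]
  induction d with
  | bot => exact bot_le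
  | coe d =>
    refine WithBot.coe_le_coe.2 (le_iInf₂ fun q hq => ?_)
    by_cases hqs : q ∈ Module.support B M
    · refine WithBot.coe_le_coe.1 (le_trans ?_ (h q.asIdeal))
      rw [hdd]
      refine min_le_min_left _ (iSup₂_le fun q' hq' => ?_)
      by_cases hq's : q' ∈ Module.support B M
      · exact (heq q' hq's q hqs (hq'.trans hq.symm)).le
      · haveI := Module.notMem_support_iff.1 hq's
        rw [Module.supportDim_eq_bot_of_subsingleton]
        exact bot_le
    · haveI := Module.notMem_support_iff.1 hqs
      rw [depth, Basic.idealDepth_subsingleton]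
      exact le_top

/-- Cohen-Macaulayness over a local base, read at the primes over the maximal ideal. -/
theorem isCohenMacaulayModule_iff [IsLocalRing A] [Nontrivial M] :
    IsCohenMacaulayModule A M ↔
      (∀ q ∈ {q : PrimeSpectrum B | q.asIdeal.comap (algebraMap A B) = maximalIdeal A ∧ q ∈ Module.support B M},
        IsCohenMacaulayModule (Localization.AtPrime q.asIdeal) (LocalizedModule q.asIdeal.primeCompl M)) ∧
      (∀ q ∈ {q : PrimeSpectrum B | q.asIdeal.comap (algebraMap A B) = maximalIdeal A ∧ q ∈ Module.support B M},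
        ∀ q' ∈ {q : PrimeSpectrum B | q.asIdeal.comap (algebraMap A B) = maximalIdeal A ∧ q ∈ Module.support B M},
          Module.supportDim (Localization.AtPrime q.asIdeal) (LocalizedModule q.asIdeal.primeCompl M) =
            Module.supportDim (Localization.AtPrime q'.asIdeal) (LocalizedModule q'.asIdeal.primeCompl M)) := by
  haveI : Module.Finite B M := Module.Finite.of_restrictScalars_finite A B M
  obtain ⟨h1, h2⟩ := localRing_eq (A := A) M
  rw [depth_eq_iInf (B := B) M] at h1
  rw [supportDim_eq_iSup (B := B) M] at h2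
  obtain ⟨D, hD⟩ : ∃ D, D = Module.supportDim A M := ⟨_, rfl⟩
  constructor
  · intro h
    have key : ∀ q ∈ {q : PrimeSpectrum B | q.asIdeal.comap (algebraMap A B) = maximalIdeal A ∧ q ∈ Module.support B M},
        Module.supportDim A M ≤
          ((depth (Localization.AtPrime q.asIdeal) (LocalizedModule q.asIdeal.primeCompl M) : ℕ∞) : WithBot ℕ∞) ∧
        ((depth (Localization.AtPrime q.asIdeal) (LocalizedModule q.asIdeal.primeCompl M) : ℕ∞) : WithBot ℕ∞) ≤
          Module.supportDim (Localization.AtPrime q.asIdeal) (LocalizedModule q.asIdeal.primeCompl M) ∧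
        Module.supportDim (Localization.AtPrime q.asIdeal) (LocalizedModule q.asIdeal.primeCompl M) ≤
          Module.supportDim A M := by
      rintro q ⟨hq, hqs⟩
      haveI : Nontrivial (LocalizedModule q.asIdeal.primeCompl M) := Module.mem_support_iff.1 hqs
      haveI : IsNoetherianRing (Localization.AtPrime q.asIdeal) :=
        IsLocalization.isNoetherianRing q.asIdeal.primeCompl _ inferInstance
      haveI : Module.Finite (Localization.AtPrime q.asIdeal) (LocalizedModule q.asIdeal.primeCompl M) :=
        Module.Finite.of_isLocalizedModule q.asIdeal.primeCompl (LocalizedModule.mkLinearMap q.asIdeal.primeCompl M)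
      refine ⟨?_, Assoc.depth_le_supportDim _, ?_⟩
      · rw [h, h1]
        exact WithBot.coe_le_coe.2 (iInf₂_le q hq)
      · rw [h2]
        exact le_iSup₂ (f := fun (x : PrimeSpectrum B) (_ : x.asIdeal.comap (algebraMap A B) = (closedPoint A).asIdeal) =>
          Module.supportDim (Localization.AtPrime x.asIdeal) (LocalizedModule x.asIdeal.primeCompl M)) q hq
    refine ⟨fun q hq => ?_, fun q hq q' hq' => ?_⟩
    · obtain ⟨a, b, c⟩ := key q hq
      exact le_antisymm (c.trans a) b
    · obtain ⟨a, b, c⟩ := key q hq
      obtain ⟨a', b', c'⟩ := key q' hq'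
      exact le_antisymm (c.trans (a'.trans b')) (c'.trans (a.trans b))
  · rintro ⟨hcm, heq⟩
    rw [CM.isCohenMacaulayModule_iff_le, h1]
    rw [← hD]
    induction D with
    | bot => exact bot_le
    | coe d =>
      refine WithBot.coe_le_coe.2 (le_iInf₂ fun q hq => ?_)
      by_cases hqs : q ∈ Module.support B M
      · refine WithBot.coe_le_coe.1 (le_trans ?_ (hcm q ⟨hq, hqs⟩).le)
        rw [hD, h2]
        refine iSup₂_le fun q' hq' => ?_
        by_cases hq's : q' ∈ Module.support B M
        · exact (heq q' ⟨hq', hq's⟩ q ⟨hq, hqs⟩).le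
        · haveI := Module.notMem_support_iff.1 hq's
          rw [Module.supportDim_eq_bot_of_subsingleton]
          exact bot_le
      · haveI := Module.notMem_support_iff.1 hqs
        rw [depth, Basic.idealDepth_subsingleton]
        exact le_top

end Groth.Agent.Lib.EGA63.FiniteBase
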