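import Groth.Prelude.Def_AssocGrMod
import Groth.Prelude.Def_EGA4b
import Mathlib.RingTheory.Flat.Basic

/-!
# Normal flatness through the associated graded module
-/

set_option autoImplicit false
set_option linter.style.haveILetI false

universe u

open AssocGr

namespace Groth.Agent.Lib.EGA63.GrFlat

variable {A : Type u} [CommRing A] (I : Ideal A) (M : Type u) [AddCommGroup M] [Module A M]

/-- The degree-`n` piece of the associated graded module. -/
abbrev Piece (n : ℕ) : Type u :=
  ↥(I ^ n • (⊤ : Submodule A M)) ⧸ (I • (⊤ : Submodule A ↥(I ^ n • (⊤ : Submodule A M))))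

theorem isNormallyFlat_iff :
    EGA4.IsNormallyFlat I M ↔ Module.Flat (A ⧸ I) (GrMod (Rees.powFilt I M)) := by
  classical
  let F := Rees.powFilt I M
  let N : ℕ → Submodule A M := fun n => I ^ n • ⊤
  have hN : ∀ n, F.N n = N n := fun n => rfl
  have hmem : ∀ (n : ℕ) (x : N n), (x : M) ∈ N (n + 1) ↔ x ∈ I • (⊤ : Submodule A (N n)) := by
    intro n x
    rw [Submodule.mem_smul_top_iff, show N (n + 1) = I • N n by
      simp only [N, ← Submodule.smul_assoc, smul_eq_mul, pow_succ']]
  let toGr : ∀ n, N n →ₗ[A] GrMod F := fun n =>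
    { toFun := fun x => ((inDegM F n x : grM F n) : GrMod F)
      map_add' := fun x y => congrArg Subtype.val ((inDegM F n).map_add x y)
      map_smul' := fun a x => coe_inDegM_smul F n a x }
  have htoGr : ∀ n (x : N n), toGr n x = 0 ↔ x ∈ I • (⊤ : Submodule A (N n)) := fun n x =>
    ((ZeroMemClass.coe_eq_zero).trans (inDegM_eq_zero_iff F n x)).trans (hmem n x)
  let φ : ∀ n, Piece I M n →ₗ[A] GrMod F := fun n =>
    Submodule.liftQ _ (toGr n) fun x hx => (htoGr n x).2 hx
  let ψ : (DirectSum ℕ fun n => Piece I M n) →ₗ[A] GrMod F := DirectSum.toModule A ℕ _ φ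
  -- components
  let coeffₗ : ∀ n, ReesM F →ₗ[A] Piece I M n := fun n =>
    { toFun := fun y => Submodule.Quotient.mk ⟨ReesM.coeff F y n, ReesM.coeff_mem F y n⟩
      map_add' := fun y y' => by
        rw [← Submodule.Quotient.mk_add]
        exact congrArg _ (Subtype.ext (ReesM.coeff_add F y y' n))
      map_smul' := fun a y => by
        rw [RingHom.id_apply, ← Submodule.Quotient.mk_smul]
        exact congrArg _ (Subtype.ext (ReesM.coeff_smul_base F a y n)) }
  have hker : ∀ n, LinearMap.ker (mkGM F) ≤ LinearMap.ker (coeffₗ n) := fun n y hy => by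
    rw [LinearMap.mem_ker, mkGM_eq_zero_iff, mem_succMod_iff] at hy
    rw [LinearMap.mem_ker]
    exact (Submodule.Quotient.mk_eq_zero _).2 ((hmem n _).1 (hy n))
  let comp : ∀ n, GrMod F →ₗ[A] Piece I M n := fun n =>
    (Submodule.liftQ _ (coeffₗ n) (hker n)).comp
      ((mkGM F).quotKerEquivOfSurjective (mkGM_surjective F)).symm.toLinearMap
  have hcomp : ∀ n y, comp n (mkGM F y) = coeffₗ n y := fun n y => by
    have h : ((mkGM F).quotKerEquivOfSurjective (mkGM_surjective F)).symm (mkGM F y) =
        Submodule.Quotient.mk y := by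
      rw [LinearEquiv.symm_apply_eq]
      rfl
    change Submodule.liftQ _ (coeffₗ n) (hker n)
      (((mkGM F).quotKerEquivOfSurjective (mkGM_surjective F)).symm (mkGM F y)) = _
    rw [h]
    rfl
  have hdiag : ∀ (i n : ℕ) (z : Piece I M i),
      comp n (φ i z) = (DirectSum.lof A ℕ (fun k => Piece I M k) i z) n := by
    intro i n z
    obtain ⟨x, rfl⟩ := Submodule.Quotient.mk_surjective _ z
    change comp n (mkGM F (monomM F i x)) = _
    rw [hcomp]
    by_cases h : i = n
    · subst h
      rw [DirectSum.lof_apply]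
      change Submodule.Quotient.mk (⟨ReesM.coeff F (monomM F i x) i, ReesM.coeff_mem F _ i⟩ : N i) = _
      exact congrArg _ (Subtype.ext ((ReesM.coeff_monomM F i x i).trans (if_pos rfl)))
    · rw [DirectSum.lof_eq_of, DirectSum.of_eq_of_ne _ _ _ (Ne.symm h)]
      refine (Submodule.Quotient.mk_eq_zero _).2 ?_
      have h0 : (⟨ReesM.coeff F (monomM F i x) n, ReesM.coeff_mem F _ n⟩ : N n) = 0 :=
        Subtype.ext ((ReesM.coeff_monomM F i x n).trans (if_neg h))
      exact (congrArg (fun t : N n => t ∈ I • (⊤ : Submodule A (N n))) h0).mpr (zero_mem _)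
  have hinv : ∀ (w : DirectSum ℕ fun n => Piece I M n) n, comp n (ψ w) = w n := by
    intro w n
    induction w using DirectSum.induction_on with
    | zero => simp
    | of i z =>
      rw [← DirectSum.lof_eq_of A]
      simp only [ψ, DirectSum.toModule_lof]
      exact hdiag i n z
    | add w w' h h' => rw [map_add, map_add, h, h', DirectSum.add_apply]
  have hinj : Function.Injective ψ := fun w w' h => DFinsupp.ext fun n => by
    rw [← hinv w n, ← hinv w' n, h]
  have hsurj : Function.Surjective ψ := fun z => by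
    obtain ⟨y, rfl⟩ := mkGM_surjective F z
    rw [← sum_termM F y, map_sum]
    refine ⟨∑ n ∈ ((toReesM F).symm y : PolynomialModule A M).coeff.support,
      DirectSum.lof A ℕ (fun n => Piece I M n) n
        (Submodule.Quotient.mk ⟨ReesM.coeff F y n, ReesM.coeff_mem F y n⟩), ?_⟩
    rw [map_sum]
    exact Finset.sum_congr rfl fun n _ => by simp only [ψ, DirectSum.toModule_lof]; rfl
  let e : (DirectSum ℕ fun n => Piece I M n) ≃ₗ[A ⧸ I] GrMod F :=
    LinearEquiv.extendScalarsOfSurjective (R := A) Ideal.Quotient.mk_surjective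
      (LinearEquiv.ofBijective ψ ⟨hinj, hsurj⟩)
  constructor
  · intro h
    haveI : ∀ n, Module.Flat (A ⧸ I) (Piece I M n) := h
    exact Module.Flat.of_linearEquiv e.symm
  · intro h n
    haveI : Module.Flat (A ⧸ I) (DirectSum ℕ fun n => Piece I M n) :=
      @Module.Flat.of_linearEquiv _ _ _ _ _ _ _ _ h e
    exact Module.Flat.directSum_iff.1 this n

end Groth.Agent.Lib.EGA63.GrFlat
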