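import Groth.Agent.Lib.DMod.LocLoc

/-!
# Depth and dimension of a localization at a prime of an arbitrary localization
-/

set_option autoImplicit false

universe u

open scoped Pointwise
open Groth.Agent.Lib.DMod.LocLoc (depth_eq supportDim_eq)

namespace Groth.Agent.Lib.EGA63.LocSub

variable {A : Type u} [CommRing A] (T : Submonoid A) (M : Type u) [AddCommGroup M] [Module A M]
  (q' : PrimeSpectrum (Localization T))

/-- Localizing `M_p` at a prime over `q` gives depth and dimension of `M_q`. -/
theorem exists_equiv :
    ∃ (S : Type u) (_ : CommRing S) (_ : IsLocalRing S) (_ : Algebra (Localization.AtPrime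
        (q'.asIdeal.comap (algebraMap A (Localization T)))) S)
      (N : Type u) (_ : AddCommGroup N) (_ : Module S N)
      (_ : Module (Localization.AtPrime
        (q'.asIdeal.comap (algebraMap A (Localization T)))) N)
      (_ : IsScalarTower (Localization.AtPrime
        (q'.asIdeal.comap (algebraMap A (Localization T)))) S N),
      Function.Bijective (algebraMap (Localization.AtPrime
        (q'.asIdeal.comap (algebraMap A (Localization T)))) S) ∧
      Nonempty (LocalizedModule (q'.asIdeal.comap (algebraMap A (Localization T))).primeCompl M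
        ≃ₗ[Localization.AtPrime (q'.asIdeal.comap (algebraMap A (Localization T)))] N) ∧
      LocCoh.depth S N = LocCoh.depth (Localization.AtPrime q'.asIdeal)
        (LocalizedModule q'.asIdeal.primeCompl (LocalizedModule T M)) ∧
      Module.supportDim S N = Module.supportDim (Localization.AtPrime q'.asIdeal)
        (LocalizedModule q'.asIdeal.primeCompl (LocalizedModule T M)) := by
  let Ap := Localization T
  let q := q'.asIdeal.comap (algebraMap A Ap)
  let S := Localization.AtPrime q'.asIdeal
  let Mp := LocalizedModule T M
  let N := LocalizedModule q'.asIdeal.primeCompl Mp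
  let φ : Localization.AtPrime q ≃ₐ[A] S :=
    IsLocalization.localizationLocalizationAtPrimeIsoLocalization T q'.asIdeal
  let : Algebra (Localization.AtPrime q) S := φ.toRingEquiv.toRingHom.toAlgebra
  let : Module (Localization.AtPrime q) N := Module.compHom N φ.toRingEquiv.toRingHom
  have : IsScalarTower (Localization.AtPrime q) S N :=
    IsScalarTower.of_algebraMap_smul fun r n => rfl
  let f₁ := LocalizedModule.mkLinearMap T M
  let f₂ := LocalizedModule.mkLinearMap q'.asIdeal.primeCompl Mp
  let f : M →ₗ[A] N := (f₂.restrictScalars A) ∘ₗ f₁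
  have : IsScalarTower A (Localization.AtPrime q) N :=
    IsScalarTower.of_algebraMap_smul fun a n => by
      change φ (algebraMap A (Localization.AtPrime q) a) • n = a • n
      rw [AlgEquiv.commutes, IsScalarTower.algebraMap_apply A Ap S, algebraMap_smul, algebraMap_smul]
  have hloc : IsLocalizedModule q.primeCompl f := by
    refine ⟨fun t => ?_, fun n => ?_, fun {m₁ m₂} hm => ?_⟩
    · have hu : IsUnit ((algebraMap A S) (t : A)) := by
        rw [IsScalarTower.algebraMap_apply A Ap S]
        exact IsLocalization.map_units S (⟨algebraMap A Ap t, t.2⟩ : q'.asIdeal.primeCompl)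
      refine (Module.End.isUnit_iff _).2 ?_
      convert (Module.End.isUnit_iff _).1 (hu.map (Algebra.lsmul A A N)) using 1
      ext z
      simp [Module.algebraMap_end_apply]
    · obtain ⟨⟨y, t⟩, hyt⟩ := IsLocalizedModule.surj q'.asIdeal.primeCompl f₂ n
      obtain ⟨⟨m, s⟩, hms⟩ := IsLocalizedModule.surj T f₁ y
      obtain ⟨⟨t₀, u⟩, htu⟩ := IsLocalization.surj T (t : Ap)
      have hu : ∀ v : T, algebraMap A Ap (v : A) ∉ q'.asIdeal := fun v hv =>
        q'.isPrime.ne_top (q'.asIdeal.eq_top_of_isUnit_mem hv (IsLocalization.map_units Ap v))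
      refine ⟨((u : A) • m, ⟨s * t₀, fun hc => ?_⟩), ?_⟩
      · rcases (show q.IsPrime from inferInstance).mem_or_mem hc with hc | hc
        · exact hu s hc
        · change algebraMap A Ap t₀ ∈ q'.asIdeal at hc
          dsimp only at htu
          rw [← htu] at hc
          exact (q'.isPrime.mem_or_mem hc).elim t.2 (hu u)
      · change ((s : A) * t₀) • n = f ((u : A) • m)
        rw [map_smul, mul_smul]
        change (s : A) • t₀ • n = (u : A) • f₂ (f₁ m)
        dsimp only at hms htu hyt
        rw [← hms, Submonoid.smul_def, LinearMap.map_smul_of_tower, ← hyt, Submonoid.smul_def,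
          ← algebraMap_smul Ap t₀ n, ← htu, mul_comm, mul_smul, algebraMap_smul]
        exact smul_comm _ _ _
    · change f₂ (f₁ m₁) = f₂ (f₁ m₂) at hm
      obtain ⟨t, ht⟩ := (IsLocalizedModule.eq_iff_exists q'.asIdeal.primeCompl f₂).1 hm
      obtain ⟨⟨t₀, u⟩, htu⟩ := IsLocalization.surj T (t : Ap)
      dsimp only at htu
      have h2 : f₁ (t₀ • m₁) = f₁ (t₀ • m₂) := by
        rw [map_smul, map_smul, ← algebraMap_smul Ap t₀, ← algebraMap_smul Ap t₀, ← htu, mul_comm,
          mul_smul, mul_smul]
        exact congrArg _ ht
      obtain ⟨v, hv⟩ := (IsLocalizedModule.eq_iff_exists T f₁).1 h2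
      have hu : ∀ v : T, algebraMap A Ap (v : A) ∉ q'.asIdeal := fun v hv =>
        q'.isPrime.ne_top (q'.asIdeal.eq_top_of_isUnit_mem hv (IsLocalization.map_units Ap v))
      refine ⟨⟨v * t₀, fun hc => ?_⟩, ?_⟩
      · rcases (show q.IsPrime from inferInstance).mem_or_mem hc with hc | hc
        · exact hu v hc
        · change algebraMap A Ap t₀ ∈ q'.asIdeal at hc
          rw [← htu] at hc
          exact (q'.isPrime.mem_or_mem hc).elim t.2 (hu u)
      · simp only [Submonoid.smul_def] at hv ⊢
        rw [mul_smul, mul_smul]
        exact hv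
  exact ⟨S, inferInstance, inferInstance, inferInstance, N, inferInstance, inferInstance,
    inferInstance, inferInstance, φ.toEquiv.bijective,
    ⟨(IsLocalizedModule.iso q.primeCompl f).extendScalarsOfIsLocalization q.primeCompl _⟩, rfl, rfl⟩

/-- Depth and dimension are those of the localization at the contracted prime. -/
theorem depth_supportDim_eq :
    LocCoh.depth (Localization.AtPrime q'.asIdeal)
        (LocalizedModule q'.asIdeal.primeCompl (LocalizedModule T M)) =
      LocCoh.depth (Localization.AtPrime (q'.asIdeal.comap (algebraMap A (Localization T))))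
        (LocalizedModule (q'.asIdeal.comap (algebraMap A (Localization T))).primeCompl M) ∧
    Module.supportDim (Localization.AtPrime q'.asIdeal)
        (LocalizedModule q'.asIdeal.primeCompl (LocalizedModule T M)) =
      Module.supportDim (Localization.AtPrime (q'.asIdeal.comap (algebraMap A (Localization T))))
        (LocalizedModule (q'.asIdeal.comap (algebraMap A (Localization T))).primeCompl M) := by
  obtain ⟨S, _, _, _, N, _, _, _, _, hb, ⟨e⟩, h1, h2⟩ := exists_equiv T M q'
  rw [← h1, ← h2, depth_eq hb N, supportDim_eq hb N, Module.supportDim_eq_of_equiv e]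
  refine ⟨?_, rfl⟩
  simp only [LocCoh.depth, LocCoh.idealDepth, e.isWeaklyRegular_congr]
  have htop : ∀ I : Ideal (Localization.AtPrime
      (q'.asIdeal.comap (algebraMap A (Localization T)))),
      I • (⊤ : Submodule _ N) = ⊤ ↔ I • (⊤ : Submodule _ (LocalizedModule
        (q'.asIdeal.comap (algebraMap A (Localization T))).primeCompl M)) = ⊤ :=
    fun I => by
      rw [← (Submodule.map_injective_of_injective e.symm.injective (f := e.symm.toLinearMap)).eq_iff,
        Submodule.map_smul'', Submodule.map_top, LinearEquiv.range]
  simp only [htop]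

end Groth.Agent.Lib.EGA63.LocSub
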